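import Cfsg.Agent.H349.Rg.One
import Cfsg.Agent.H349.KD4.Fac
import Cfsg.Agent.H370.Rg.Size
import Cfsg.Agent.H454.Reg.NotLe
import Cfsg.Agent.H934.OutB
import Cfsg.Agent.S2129
import Cfsg.Agent.H563.KG.CycFix
import Cfsg.Agent.OrdDiv.Table
import Cfsg.Agent.S0000

/-!
# S3691: `³D₄(q)` (helper349)

* `index_deg3` : indices at most `3 δ`, `δ` the least degree;
* `no_smallIndex` : the index of a proper subgroup of `³D₄(p^f)`, `13 < p^f`, does not divide `12 f (q^4 - q^2 + 1)`;
* `row_td4` : the row of S3691.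
-/

set_option autoImplicit false

namespace Cfsg.Agent.H349.Rg

open Cfsg Cfsg.Agent.OrdDiv Cfsg.Agent.H436 Cfsg.Agent.H902 Cfsg.Agent.H902.Names Cfsg.Agent.H915.GN Cfsg.Agent.H264.GN
  Cfsg.Agent.H290.ElReg Cfsg.Agent.H264.FKS Cfsg.Agent.H563.KG Cfsg.Agent.H56.Exc Cfsg.Lie Cfsg.Agent.H349.KD4

universe u

/-- the index of a subgroup, three times the least degree -/
theorem index_deg3 {G : Type*} [Group G] [Finite G] [IsSimpleGroup G] (hna : ∃ x y : G, x * y ≠ y * x) {δ : ℕ}
    (hδ : ∀ (k : ℕ) (ρ : Representation ℂ G (Fin k → ℂ)), ρ.IsIrreducible → 2 ≤ k → δ ≤ k)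
    {X : Subgroup G} (hX : X ≠ ⊤) (hle : X.index ≤ 3 * δ) : ∃ d, d ∣ Nat.card G ∧ δ ≤ d ∧
      (X.index = 1 + d ∨ ∃ d', d' ∣ Nat.card G ∧ δ ≤ d' ∧ X.index = 1 + d + d') := by
  classical
  have : Fintype G := Fintype.ofFinite G
  have : Fintype (G ⧸ X) := Fintype.ofFinite _
  obtain ⟨m, -, hm1, -, hm⟩ := PermutationGroups.MultFree.exists_decomp (G := G) (Ω := G ⧸ X) ((1 : G) : G ⧸ X)
  have hhom : ∀ f : G →* ℂˣ, f = 1 := by
    intro f
    rcases (MonoidHom.normal_ker f).eq_bot_or_eq_top with h | h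
    · exfalso
      obtain ⟨a, b, hab⟩ := hna
      apply hab
      apply (MonoidHom.ker_eq_bot_iff f).1 h
      rw [map_mul, map_mul, mul_comm]
    · ext x
      have : x ∈ f.ker := h ▸ Subgroup.mem_top x
      rw [(MonoidHom.mem_ker).1 this]
      rfl
  let ψ₀ : IrrCharacter G := ⟨_, PermutationGroups.MultFree.isIrr_one⟩
  have hnat : ∀ ψ : IrrCharacter G, ∃ n : ℕ, (ψ : G → ℂ) 1 = (n : ℂ) ∧ (ψ ≠ ψ₀ → δ ≤ n ∧ n ∣ Nat.card G) := by
    intro ψ
    obtain ⟨n, ρ, hρ, hn⟩ := ψ.2
    have hn1 : (ψ : G → ℂ) 1 = (n : ℂ) := by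
      rw [← hn, Representation.char_one]; simp
    refine ⟨n, hn1, fun hne => ?_⟩
    have h0 : n ≠ 0 := by
      rintro rfl
      have h2 : Nontrivial (Subrepresentation ρ) := hρ.1
      obtain ⟨a, b, hab⟩ := h2.exists_pair_ne
      apply hab
      have h3 : Subsingleton (Submodule ℂ (Fin 0 → ℂ)) := inferInstance
      exact Subrepresentation.toSubmodule_injective (Subsingleton.elim _ _)
    have h1 : n ≠ 1 := by
      rintro rfl
      apply hne
      obtain ⟨f, hf⟩ := Characters.Linear.exists_hom_of_isIrrCharacter ψ.2 (by rw [hn1, Nat.cast_one])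
      rw [hhom f] at hf
      apply Subtype.ext
      rw [hf]
      rfl
    refine ⟨hδ n ρ hρ (by omega), ?_⟩
    have h2 := Characters.DegreeBounds.finrank_dvd_card ρ
    rwa [Module.finrank_fin_fun] at h2
  choose d hd hd' using hnat
  have hmem : ψ₀ ∈ m.support := by
    rw [Finsupp.mem_support_iff]
    show m ⟨_, PermutationGroups.MultFree.isIrr_one⟩ ≠ 0
    rw [hm1]; exact one_ne_zero
  have hd0 : d ψ₀ = 1 := by
    have h1 := hd ψ₀
    have h2 : (ψ₀ : G → ℂ) 1 = 1 := rfl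
    rw [h2] at h1
    exact_mod_cast h1.symm
  have hsum : X.index = 1 + ∑ ψ ∈ m.support.erase ψ₀, m ψ * d ψ := by
    apply Nat.cast_injective (R := ℂ)
    have h1 : ((X.index : ℕ) : ℂ) = (Nat.card (G ⧸ X) : ℂ) := rfl
    rw [h1, hm, ← Finset.add_sum_erase _ _ hmem, hd ψ₀, hd0]
    have h2 : m ψ₀ = 1 := hm1
    rw [h2]
    push_cast
    rw [one_mul]
    congr 1
    exact Finset.sum_congr rfl fun ψ _ => by rw [hd ψ]
  have hidx : X.index ≠ 1 := fun h => hX (Subgroup.index_eq_one.1 h)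
  have hne : (m.support.erase ψ₀).Nonempty := by
    rw [Finset.nonempty_iff_ne_empty]
    intro h
    rw [h, Finset.sum_empty] at hsum
    exact hidx hsum
  obtain ⟨ψ₁, hψ₁⟩ := hne
  have hterm : ∀ ψ ∈ m.support.erase ψ₀, 1 ≤ m ψ ∧ δ ≤ d ψ ∧ d ψ ∣ Nat.card G := by
    intro ψ hψ
    rw [Finset.mem_erase, Finsupp.mem_support_iff] at hψ
    exact ⟨Nat.one_le_iff_ne_zero.2 hψ.2, hd' ψ hψ.1⟩
  obtain ⟨h1, h2, h4⟩ := hterm ψ₁ hψ₁
  refine ⟨d ψ₁, h4, h2, ?_⟩
  rw [← Finset.add_sum_erase _ _ hψ₁] at hsum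
  have h5 : m ψ₁ = 1 ∨ m ψ₁ = 2 ∨ 3 ≤ m ψ₁ := by omega
  by_cases h6 : ∑ ψ ∈ (m.support.erase ψ₀).erase ψ₁, m ψ * d ψ = 0
  · rw [h6, add_zero] at hsum
    rcases h5 with h5 | h5 | h5
    · left
      rw [hsum, h5, one_mul]
    · right
      refine ⟨d ψ₁, h4, h2, ?_⟩
      rw [hsum, h5]
      ring
    · exfalso
      have h7 : 3 * d ψ₁ ≤ m ψ₁ * d ψ₁ := Nat.mul_le_mul_right _ h5
      omega
  · obtain ⟨ψ₂, hψ₂, -⟩ := Finset.exists_ne_zero_of_sum_ne_zero h6
    obtain ⟨g1, g2, g3⟩ := hterm ψ₂ (Finset.mem_of_mem_erase hψ₂)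
    right
    refine ⟨d ψ₂, g3, g2, ?_⟩
    rw [← Finset.add_sum_erase _ _ hψ₂] at hsum
    have e1 : m ψ₁ = 1 := by
      by_contra hcon
      have a1 : 2 * d ψ₁ ≤ m ψ₁ * d ψ₁ := Nat.mul_le_mul_right _ (by omega)
      have a2 : 1 * d ψ₂ ≤ m ψ₂ * d ψ₂ := Nat.mul_le_mul_right _ g1
      omega
    have e2 : m ψ₂ = 1 := by
      by_contra hcon
      have a1 : 1 * d ψ₁ ≤ m ψ₁ * d ψ₁ := Nat.mul_le_mul_right _ h1
      have a2 : 2 * d ψ₂ ≤ m ψ₂ * d ψ₂ := Nat.mul_le_mul_right _ (by omega)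
      omega
    rw [e1, e2, one_mul, one_mul] at hsum
    have e3 : ∑ ψ ∈ ((m.support.erase ψ₀).erase ψ₁).erase ψ₂, m ψ * d ψ = 0 := by
      by_contra hne0
      obtain ⟨ψ₃, hψ₃, -⟩ := Finset.exists_ne_zero_of_sum_ne_zero hne0
      obtain ⟨k1, k2, -⟩ := hterm ψ₃ (Finset.mem_of_mem_erase (Finset.mem_of_mem_erase hψ₃))
      have k3 : δ ≤ m ψ₃ * d ψ₃ := k2.trans (Nat.le_mul_of_pos_left _ k1)
      have k4 : m ψ₃ * d ψ₃ ≤ ∑ ψ ∈ ((m.support.erase ψ₀).erase ψ₁).erase ψ₂, m ψ * d ψ :=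
        Finset.single_le_sum (f := fun ψ => m ψ * d ψ) (fun _ _ => Nat.zero_le _) hψ₃
      omega
    rw [e3] at hsum
    omega

/-! ### numbers -/

/-- the divisors of a product of prime powers -/
def dv : List (ℕ × ℕ) → List ℕ
  | [] => [1]
  | x :: L => (List.range (x.2 + 1)).flatMap fun i => (dv L).map fun d => x.1 ^ i * d

theorem mem_dv : ∀ (L : List (ℕ × ℕ)), (∀ x ∈ L, x.1.Prime) → ∀ d, d ∣ (L.map fun x => x.1 ^ x.2).prod → d ∈ dv L
  | [], _, d, hd => by
    rw [List.map_nil, List.prod_nil] at hd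
    rw [Nat.dvd_one.1 hd]
    exact List.mem_singleton.2 rfl
  | x :: L, h, d, hd => by
    rw [List.map_cons, List.prod_cons] at hd
    obtain ⟨y, z, hy, hz, rfl⟩ := (Nat.dvd_mul).1 hd
    obtain ⟨i, hi, rfl⟩ := (Nat.dvd_prime_pow (h x List.mem_cons_self)).1 hy
    rw [dv, List.mem_flatMap]
    refine ⟨i, List.mem_range.2 (by omega), List.mem_map.2 ⟨z, mem_dv L (fun x hx => h x (List.mem_cons_of_mem _ hx)) z hz, rfl⟩⟩

/-- the odd part of the order of `³D₄(16)` -/
def L16 : List (ℕ × ℕ) := [(3, 4), (5, 2), (7, 2), (13, 2), (17, 2), (97, 1), (241, 2), (673, 1)]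

theorem chk16 : ((dv L16).all fun d => !(Nat.ble 1044496 d && Nat.ble d 2088991 &&
    (16 ^ 12 * (16 ^ 2 - 1) * (16 ^ 6 - 1) * (16 ^ 8 + 16 ^ 4 + 1)) % (3133487 - d) == 0)) = true := by
  decide +kernel

theorem num16 {C d d' : ℕ} (hC : C = 16 ^ 12 * (16 ^ 2 - 1) * (16 ^ 6 - 1) * (16 ^ 8 + 16 ^ 4 + 1)) (hd : d ∣ C)
    (hd' : d' ∣ C) (h1 : 1044496 ≤ d) (h2 : 1044496 ≤ d') (hs : d + d' = 3133487) : False := by
  have key : ∀ a b : ℕ, a ∣ C → b ∣ C → 1044496 ≤ a → 1044496 ≤ b → a + b = 3133487 → ¬ 2 ∣ a → False := by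
    intro a b ha hb h1 h2 hs h
    have hco : Nat.Coprime a (2 ^ 48) := by
      apply Nat.Coprime.pow_right
      exact ((Nat.Prime.coprime_iff_not_dvd Nat.prime_two).2 h).symm
    have hN : C = 2 ^ 48 * (L16.map fun x => x.1 ^ x.2).prod := by
      rw [hC]
      decide +kernel
    have h3 : a ∣ (L16.map fun x => x.1 ^ x.2).prod := by
      rw [hN] at ha
      exact hco.dvd_of_dvd_mul_left ha
    have h4 := mem_dv L16 (by
      intro x hx
      simp only [L16, List.mem_cons, List.not_mem_nil, or_false] at hx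
      rcases hx with rfl | rfl | rfl | rfl | rfl | rfl | rfl | rfl <;> norm_num) a h3
    have h5 := List.all_eq_true.1 chk16 a h4
    have h6 : b = 3133487 - a := by omega
    rw [h6, hC] at hb
    have h7 := Nat.mod_eq_zero_of_dvd hb
    have h8 : Nat.ble 1044496 a = true := Nat.ble_eq_true_of_le h1
    have h9 : Nat.ble a 2088991 = true := Nat.ble_eq_true_of_le (by omega)
    rw [h8, h9, h7] at h5
    exact absurd h5 (by decide)
  rcases Nat.even_or_odd d with h | h
  · refine key d' d hd' hd h2 h1 (by omega) ?_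
    intro hh
    obtain ⟨k, hk⟩ := h
    obtain ⟨l, hl⟩ := hh
    omega
  · refine key d d' hd hd' h1 h2 hs ?_
    intro hh
    obtain ⟨k, hk⟩ := h
    obtain ⟨l, hl⟩ := hh
    omega

theorem small_q {p f : ℕ} (hp : p.Prime) (h1 : 1 ≤ f) (h13 : 13 < p ^ f) (h : p ^ f < 12 * f) :
    (p = 2 ∧ f = 4) ∨ (p = 3 ∧ f = 3) ∨ (p = 2 ∧ f = 5) ∨ (p = 2 ∧ f = 6) := by
  have hf : f ≤ 6 := by
    by_contra hcon
    have key : ∀ n : ℕ, 12 * (n + 7) ≤ 2 ^ (n + 7) := by
      intro n
      induction n with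
      | zero => norm_num
      | succ n ih => rw [show n + 1 + 7 = (n + 7) + 1 from rfl, pow_succ]; omega
    have h2 := key (f - 7)
    rw [Nat.sub_add_cancel (by omega)] at h2
    have h3 : 2 ^ f ≤ p ^ f := Nat.pow_le_pow_left hp.two_le f
    omega
  have h2 := hp.two_le
  have hp4 : ∀ k : ℕ, k ≤ p → k ^ f ≤ p ^ f := fun k hk => Nat.pow_le_pow_left hk f
  interval_cases f
  · omega
  · have h5 : p < 5 := by
      by_contra hcon
      have := hp4 5 (by omega)
      omega
    interval_cases p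
    · omega
    · omega
    · exact absurd hp (by norm_num)
  · have h5 : p < 4 := by
      by_contra hcon
      have := hp4 4 (by omega)
      omega
    interval_cases p
    · omega
    · exact Or.inr (Or.inl ⟨rfl, rfl⟩)
  · have h5 : p < 3 := by
      by_contra hcon
      have := hp4 3 (by omega)
      omega
    obtain rfl : p = 2 := by omega
    exact Or.inl ⟨rfl, rfl⟩
  · have h5 : p < 3 := by
      by_contra hcon
      have := hp4 3 (by omega)
      omega
    obtain rfl : p = 2 := by omega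
    exact Or.inr (Or.inr (Or.inl ⟨rfl, rfl⟩))
  · have h5 : p < 3 := by
      by_contra hcon
      have := hp4 3 (by omega)
      omega
    obtain rfl : p = 2 := by omega
    exact Or.inr (Or.inr (Or.inr ⟨rfl, rfl⟩))

/-- only one multiple -/
theorem mult_one {n k D m : ℕ} (hD : D = n * k) (hpos : 0 < D) (h : m + 1 ≤ n) (h2 : D ≤ 2 * m) : n = D := by
  have hk : k = 1 := by
    rcases k with _ | _ | k
    · omega
    · rfl
    · exfalso
      have : n * 2 ≤ n * (k + 1 + 1) := Nat.mul_le_mul_left _ (by omega)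
      omega
  rw [hD, hk, mul_one]

variable {p f : ℕ} {K : Type} [Field K] [Fintype K]

/-- **No subgroup of small index.** -/
theorem no_smallIndex (hp : p.Prime) (hf : 1 ≤ f) (hK : Fintype.card K = (p ^ f) ^ 3) (h13 : 13 < p ^ f)
    {X : Subgroup ↥(twistedD4 K (p ^ f))} (hX : X ≠ ⊤) (h : X.index ∣ 12 * f * ncl 12 (p ^ f)) : False := by
  have hpp : IsPrimePow (p ^ f) := hp.isPrimePow.pow (by omega)
  obtain ⟨hs, hna⟩ := Cfsg.Agent.S1071.result hpp hK
  have hna' : ∃ x y : ↥(twistedD4 K (p ^ f)), x * y ≠ y * x := by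
    by_contra hcon
    push Not at hcon
    exact hna ⟨⟨hcon⟩⟩
  obtain ⟨h1, h2⟩ := index_deg hna' (Cfsg.Agent.S2342.result (p ^ f) hpp hK) hX
  have h3 := index_deg3 hna' (Cfsg.Agent.S2342.result (p ^ f) hpp hK) hX
  have hC := Cfsg.Agent.S1067.result hpp hK
  generalize Nat.card ↥(twistedD4 K (p ^ f)) = C at h2 h3 hC
  rw [ncl12] at h
  have hpos : 0 < (p ^ f) ^ 4 - (p ^ f) ^ 2 + 1 := Nat.succ_pos _
  have hfpos : 0 < 12 * f * ((p ^ f) ^ 4 - (p ^ f) ^ 2 + 1) := Nat.mul_pos (by omega) hpos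
  have hle := Nat.le_of_dvd hfpos h
  rcases Nat.lt_or_ge (p ^ f) (12 * f) with hlt | hge
  · obtain ⟨k, hk⟩ := h
    rcases small_q hp hf h13 hlt with ⟨rfl, rfl⟩ | ⟨rfl, rfl⟩ | ⟨rfl, rfl⟩ | ⟨rfl, rfl⟩
    · norm_num at h1 h2 h3 hk
      have hk2 : k = 1 ∨ k = 2 := by
        rcases k with _ | _ | _ | k
        · omega
        · exact Or.inl rfl
        · exact Or.inr rfl
        · exfalso
          have : X.index * 3 ≤ X.index * (k + 1 + 1 + 1) := Nat.mul_le_mul_left _ (by omega)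
          omega
      rcases hk2 with rfl | rfl
      · have hn : X.index = 3133488 := by omega
        rw [hn] at h3
        obtain ⟨d, g1, g2, g3 | ⟨d', g4, g5, g6⟩⟩ := h3 (by norm_num)
        · have : d = 3133487 := by omega
          rw [this, hC] at g1
          revert g1
          norm_num
        · exact num16 (by rw [hC]; norm_num) g1 g4 g2 g5 (by omega)
      · have hn : X.index = 1566744 := by omega
        rw [hn] at h2
        have h4 := h2 (by norm_num)
        rw [hC] at h4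
        revert h4
        norm_num
    · norm_num at h1 h2 hk
      have hn := mult_one hk (by norm_num) h1 (by norm_num)
      rw [hn] at h2
      have h4 := h2 (by norm_num)
      rw [hC] at h4
      revert h4
      norm_num
    · norm_num at h1 h2 hk
      have hn := mult_one hk (by norm_num) h1 (by norm_num)
      rw [hn] at h2
      have h4 := h2 (by norm_num)
      rw [hC] at h4
      revert h4
      norm_num
    · norm_num at h1 h2 hk
      have hn := mult_one hk (by norm_num) h1 (by norm_num)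
      rw [hn] at h2
      have h4 := h2 (by norm_num)
      rw [hC] at h4
      revert h4
      norm_num
  · have h4 : 12 * f * ((p ^ f) ^ 4 - (p ^ f) ^ 2 + 1) ≤ p ^ f * ((p ^ f) ^ 4 - (p ^ f) ^ 2 + 1) :=
      Nat.mul_le_mul_right _ hge
    omega

/-! ### factorizations -/

open Cfsg.Agent.H454.Reg

/-- **No exact factorization of an almost simple group with socle `³D₄(q)`.** -/
theorem no_fac (hp : p.Prime) (hf : 1 ≤ f) (hK : Fintype.card K = (p ^ f) ^ 3) (h13 : 13 < p ^ f)
    {G : Type u} [Group G] [Finite G] {T X Y : Subgroup G} (h : Fac T X Y)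
    (e : T ≃* ↥(twistedD4 K (p ^ f))) : False := by
  have hq : 2 ≤ p ^ f := hp.two_le.trans (Nat.le_self_pow (by omega) p)
  have hpp : IsPrimePow (p ^ f) := hp.isPrimePow.pow (by omega)
  have : Fact p.Prime := ⟨hp⟩
  have : CharP K p := charP_of_pow (a := f * 3) hp (by rw [hK, ← pow_mul])
  have tb := Cfsg.Agent.OrdDiv.table.{0}
  have hkn : ∀ (S : Type) [Group S] [Finite S], IsSimpleGroup S → IsKnownSimple' S := fun _ _ _ _ => Cfsg.Agent.S0000.result
  have hout : Nat.card (Out T) = 3 * f := by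
    rw [Cfsg.Agent.H934.OutB.card_out_congr e]
    exact Cfsg.Agent.S2129.result p f (by rw [hK, ← pow_mul, mul_comm f 3]) hf
  have hcardT : Nat.card T = Nat.card ↥(twistedD4 K (p ^ f)) := Nat.card_congr e.toEquiv
  have hbig : ∀ r, Prim (p ^ f) 12 r → Big ↥(twistedD4 K (p ^ f)) r (ncl 12 (p ^ f)) 4 := fun r hr =>
    big_TD4_12 hpp hK (cast_ncl (by omega)) hr
  have hdvdG : ncl 12 (p ^ f) ∣ Nat.card T := by
    rw [hcardT, ← Int.natCast_dvd_natCast, ord_TD4 hpp hK, cast_ncl (by omega)]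
    refine ⟨((p ^ f : ℕ) : ℤ) ^ 12 * (((p ^ f : ℕ) : ℤ) ^ 2 - 1) * (((p ^ f : ℕ) : ℤ) ^ 6 - 1) *
      (((p ^ f : ℕ) : ℤ) ^ 4 + ((p ^ f : ℕ) : ℤ) ^ 2 + 1), by ring⟩
  have hbase : ∀ {r : ℕ}, Prim p (12 * f) r → Prim (p ^ f) 12 r := fun h => Cfsg.Agent.H946.KZ.prim_base (by omega) h
  have hlt : ∀ {r : ℕ}, Prim p (12 * f) r → 12 * f < r := fun h => Cfsg.Agent.H946.KZ.lt_of_prim hp.two_le (by omega) h
  have hrO : ∀ {r : ℕ}, Prim p (12 * f) r → ¬ r ∣ Nat.card (Out T) := fun {r} hr hd => by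
    rw [hout] at hd
    have h1 := Nat.le_of_dvd (by omega) hd
    have h2 := hlt hr
    omega
  -- a small factor
  have small : ∀ X Y : Subgroup G, Fac T X Y → Nat.card (X.subgroupOf T) ∣ 4 * ncl 12 (p ^ f) → False := by
    intro X Y h hX
    obtain ⟨t, -, ht, hc⟩ := h.card0
    rw [hout] at ht
    have h1 := (Y.subgroupOf T).card_mul_index
    have h2 : (Y.subgroupOf T).index = Nat.card (X.subgroupOf T) * t := by
      have h3 : Nat.card (Y.subgroupOf T) * (Y.subgroupOf T).index =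
          Nat.card (Y.subgroupOf T) * (Nat.card (X.subgroupOf T) * t) := by
        rw [h1, ← hc]; ring
      exact Nat.eq_of_mul_eq_mul_left Nat.card_pos h3
    have h4 : (Y.subgroupOf T).index ∣ 12 * f * ncl 12 (p ^ f) := by
      rw [h2]
      calc Nat.card (X.subgroupOf T) * t ∣ (4 * ncl 12 (p ^ f)) * (3 * f) := Nat.mul_dvd_mul hX ht
        _ = 12 * f * ncl 12 (p ^ f) := by ring
    have h5 : ((Y.subgroupOf T).map e.toMonoidHom).index = (Y.subgroupOf T).index :=
      Subgroup.index_map_equiv (Y.subgroupOf T) e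
    refine no_smallIndex hp hf hK h13 (X := (Y.subgroupOf T).map e.toMonoidHom) ?_ (by rw [h5]; exact h4)
    intro htop
    rw [htop, Subgroup.index_top] at h5
    exact h.ne_top_right (Subgroup.index_eq_one.1 h5.symm)
  have hmap : ∀ X : Subgroup T, Nat.card (X.map e.toMonoidHom) = Nat.card X := fun X =>
    Subgroup.card_map_of_injective e.injective
  have htop : ∀ X Y : Subgroup G, Fac T X Y → (X.subgroupOf T).map e.toMonoidHom ≠ ⊤ := by
    intro X Y h htop
    have h5 : ((X.subgroupOf T).map e.toMonoidHom).index = (X.subgroupOf T).index :=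
      Subgroup.index_map_equiv (X.subgroupOf T) e
    rw [htop, Subgroup.index_top] at h5
    exact h.ne_top_left (Subgroup.index_eq_one.1 h5.symm)
  -- a large prime
  have large : ∀ {r : ℕ}, Prim p (12 * f) r → 13 < r → ∀ X Y : Subgroup G, Fac T X Y → r ∣ Nat.card (X.subgroupOf T) →
      False := by
    intro r hr h13r X Y h hrX
    have h1 := kone_TD4 tb hkn cycFixSolv hp hf hK ((X.subgroupOf T).map e.toMonoidHom) hr h13r (by rw [hmap]; exact hrX)
    rcases h1 with h1 | h1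
    · exact htop X Y h h1
    · exact small X Y h (by rwa [hmap] at h1)
  obtain ⟨r, hr⟩ := exists_prim (e := 12 * f) hp.two_le (by omega) (by omega)
  have hrT : r ∣ Nat.card T := (dvd_ncl cls12 (by omega) (hbase hr)).trans hdvdG
  by_cases h13r : 13 < r
  · rcases h.prime_dvd hr.prime hrT (hrO hr) with h1 | h1
    · exact large hr h13r X Y h h1
    · exact large hr h13r Y X h.symm h1
  -- only the prime 13
  have hf1 : f = 1 := by
    have := hlt hr
    omega
  subst hf1
  have h12 : ∀ {s : ℕ}, Prim (p ^ 1) 12 s → Prim p (12 * 1) s := fun hs => by rwa [pow_one] at hs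
  have one : ∀ X Y : Subgroup G, Fac T X Y → r ∣ Nat.card (X.subgroupOf T) → False := by
    intro X Y h hrX
    have key : ∀ s, Prim (p ^ 1) 12 s → ¬ s ∣ ((X.subgroupOf T).map e.toMonoidHom).index := by
      intro s hs hsd
      have hs' := h12 hs
      have hsT : s ∣ Nat.card T := (dvd_ncl cls12 (by omega) hs).trans hdvdG
      have h5 : ((X.subgroupOf T).map e.toMonoidHom).index = (X.subgroupOf T).index :=
        Subgroup.index_map_equiv (X.subgroupOf T) e
      rw [h5] at hsd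
      have hs13 : ¬ 13 < s := by
        intro hs13
        rcases h.prime_dvd hs.prime hsT (hrO hs') with h1 | h1
        · exact large hs' hs13 X Y h h1
        · exact large hs' hs13 Y X h.symm h1
      have e1 : s = r := by
        have a1 := hlt hs'
        have a2 := hlt hr
        omega
      subst e1
      have := Fact.mk hs.prime
      have hcyc : ∀ P : Subgroup T, IsPGroup s P → IsCyclic P := by
        intro P hP
        have hb : Big T s (ncl 12 (p ^ 1)) 4 := (hbig s hs).congr e.symm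
        obtain ⟨Q, hQ⟩ := hP.exists_le_sylow
        have hcQ := hb.isCyclic_sylow Q
        exact isCyclic_of_injective (Subgroup.inclusion hQ) (Subgroup.inclusion_injective hQ)
      have hYn : ¬ s ∣ Nat.card (Y.subgroupOf T) := fun hY => h.not_both hs.prime hcyc hrX hY
      have hv := h.val_eq (hrO hs')
      rw [Nat.factorization_eq_zero_of_not_dvd hYn, add_zero] at hv
      have h6 := (X.subgroupOf T).card_mul_index
      have h7 : (Nat.card T).factorization s = (Nat.card (X.subgroupOf T)).factorization s +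
          ((X.subgroupOf T).index).factorization s := by
        rw [← h6, Nat.factorization_mul Nat.card_pos.ne' Subgroup.index_ne_zero_of_finite]
        rfl
      have h8 : 1 ≤ ((X.subgroupOf T).index).factorization s :=
        (hs.prime.dvd_iff_one_le_factorization Subgroup.index_ne_zero_of_finite).1 hsd
      omega
    rcases kfull_TD4 tb hkn cycFixSolv hp le_rfl hK _ key with h1 | h1
    · exact htop X Y h h1
    · rw [m_eq hq] at h1
      exact small X Y h (by rwa [hmap] at h1)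
  rcases h.prime_dvd hr.prime hrT (hrO hr) with h1 | h1
  · exact one X Y h h1
  · exact one Y X h.symm h1

/-- **Row `³D₄(q)` of S3691.** -/
theorem row_td4 (F : Type) [Field F] [Fintype F] (q : ℕ) (hF : Fintype.card F = q ^ 3) :
    Cfsg.Agent.H454.Reg.Row.{0, u} (Lie.twistedD4 F q) := by
  intro G _ _ T H B h he
  obtain ⟨e⟩ := he
  have hpp : IsPrimePow q := by
    have h1 : IsPrimePow (q ^ 3) := by rw [← hF]; exact FiniteField.isPrimePow_card F
    exact (isPrimePow_pow_iff (by norm_num)).1 h1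
  obtain ⟨p, f, hp, hf, rfl⟩ := (isPrimePow_nat_iff q).1 hpp
  have hT : IsNamed (.td4 (p ^ f)) T := by
    refine .mk' ⟨F, inferInstance, inferInstance, hF, ⟨e⟩⟩ hpp ?_
    rw [show den (.td4 (p ^ f)) = 1 from rfl, one_mul, Nat.card_congr e.toEquiv]
    exact card_eq hp hf hF
  exact (no_fac hp hf hF (Cfsg.Agent.H370.Rg.td4_ge h.large_socle hT) h.toFac e).elim

end Cfsg.Agent.H349.Rg
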