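import Cfsg.Agent.H349.KD4.Zs

/-!
# `³D₄(q)`: subgroups containing one element of large primitive prime order (helper349)

`kone_TD4` : a proper subgroup of `³D₄(q)` whose order is divisible by a prime `r > 13` with `ord_r(p) = 12 f`
has order dividing `4 (q^4 - q^2 + 1)`.
-/

set_option autoImplicit false

namespace Cfsg.Agent.H349.Rg

open Cfsg Cfsg.Agent.OrdDiv Cfsg.Agent.H436 Cfsg.Agent.H902 Cfsg.Agent.H902.Names Cfsg.Agent.H915.GN Cfsg.Agent.H264.GN
  Cfsg.Agent.H290.ElReg Cfsg.Agent.H264.FKS Cfsg.Agent.H563.KG Cfsg.Agent.H56.Exc Cfsg.Lie Cfsg.Agent.H349.KD4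

section same

open Cfsg.Agent.H325.Same Cfsg.Agent.H946.KZ

/-- one primitive prime in the order of a group of Lie type in the same characteristic gives all -/
theorem zt_of_one {p f c s : ℕ} {g : Grp} (hp : p.Prime) (hf : 1 ≤ f) (hg : Cond g) (hch : HasChar p g)
    (hc : den g * c = num g) (hdvd : c ∣ num (.td4 (p ^ f))) (hs : Prim p (f * 12) s) (hsc : s ∣ c) : ZT p f 12 c := by
  obtain ⟨f₁, hf₁, -, hK, hY⟩ := kd_all hp hg hch hc
  have hT := td_td4 hp hf hdvd
  obtain ⟨x, hx, hx2⟩ := hK.exp hs hsc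
  have hx3 := hK.le hx
  have h1 : f * 12 ≤ f₁ * Mg g :=
    (Nat.le_of_dvd (Nat.mul_pos (by omega) (by omega)) hx2).trans (Nat.mul_le_mul_left _ hx3.2)
  obtain ⟨t, ht⟩ := exists_prim (e := f₁ * Mg g) hp.two_le (by omega) (by omega)
  obtain ⟨i, hi, hk⟩ := hT.exp ht (hK.has hY (by omega) ht)
  have hi3 := hT.le hi
  have h2 : f₁ * Mg g ≤ f * 12 :=
    (Nat.le_of_dvd (Nat.mul_pos (by omega) (by omega)) hk).trans (Nat.mul_le_mul_left _ hi3.2)
  have h3 : f₁ * Mg g = f * 12 := le_antisymm h2 h1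
  intro s' hs'
  exact hK.has hY (by omega) (by rwa [h3])

end same

theorem bnd_8_17 : Cfsg.Agent.H946.KZ.bnd 8 17 [] = true := by decide +kernel

/-! ### the sporadic groups: `r = 37`, `J4` and `Ly` -/

/-- the primes `37`, `61` in the orders of the sporadic groups -/
def spor37 : Bool := spor.all fun x => !(x.2 % 61 == 0) &&
  (!(x.2 % 37 == 0) || (!(x.2 % 13 == 0) && !(x.2 % 1369 == 0) && !([1, 2, 4].contains (x.2 / 37 % 37))))

theorem spor37_true : spor37 = true := by decide +kernel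

theorem cases_lt {r : ℕ} (hr : r.Prime) (h1 : r % 12 = 1) (h2 : r ≤ 71) : r = 13 ∨ r = 37 ∨ r = 61 := by
  have h3 : r = 1 ∨ r = 13 ∨ r = 25 ∨ r = 37 ∨ r = 49 ∨ r = 61 := by omega
  rcases h3 with rfl | rfl | rfl | rfl | rfl | rfl
  · exact absurd hr (by norm_num)
  · exact Or.inl rfl
  · exact absurd hr (by norm_num)
  · exact Or.inr (Or.inl rfl)
  · exact absurd hr (by norm_num)
  · exact Or.inr (Or.inr rfl)

theorem mod_of_class {q s : ℕ} (hq : 2 ≤ q) (hs : s.Prime) (hd : s ∣ ncl 12 q) : s % 12 = 1 := by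
  have h1 := mod_of_prim hq (by norm_num) (prim_of_dvd cls12 (by omega) hs hd)
  have h2 := hs.two_le
  omega

/-- **Sporadic groups.** -/
theorem no_spor1 {S : Type*} [Group S] [Finite S] {q r : ℕ} (hq : 2 ≤ q) (hr : r ∣ ncl 12 q) (h13 : 13 < r)
    (hb : Big S r (ncl 12 q) 4) (hrS : r ∣ Nat.card S) {x : Grp × ℕ} (hx : x ∈ spor) (hc : Nat.card S = x.2) : False := by
  have hp := hb.prime
  have h71 : r ≤ 71 := by
    by_contra h
    exact Cfsg.Agent.H946.KZ.no_spor hx hp (by omega) (by rw [← hc]; exact hrS)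
  have key := List.all_eq_true.1 spor37_true x hx
  rw [Bool.and_eq_true, Bool.or_eq_true, Bool.and_eq_true, Bool.and_eq_true] at key
  simp only [Bool.not_eq_true', beq_eq_false_iff_ne, ne_eq] at key
  obtain ⟨k1, k2⟩ := key
  have h37 : r = 37 := by
    rcases cases_lt hp (mod_of_class hq hp hr) h71 with h | h | h
    · omega
    · exact h
    · exfalso
      subst h
      apply k1
      rw [← hc]
      exact Nat.mod_eq_zero_of_dvd hrS
  subst h37
  rcases k2 with k2 | ⟨⟨k2, k3⟩, k4⟩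
  · apply k2
    rw [← hc]
    exact Nat.mod_eq_zero_of_dvd hrS
  -- the centralizer has order 37
  have hg : Nat.gcd (ncl 12 q) (Nat.card S) = 37 := by
    have hne : Nat.gcd (ncl 12 q) (Nat.card S) ≠ 0 := Nat.gcd_ne_zero_right Nat.card_pos.ne'
    have h1 : ∀ s, s.Prime → s ∣ Nat.gcd (ncl 12 q) (Nat.card S) → s = 37 := by
      intro s hs hd
      have h2 := mod_of_class hq hs (hd.trans (Nat.gcd_dvd_left _ _))
      have h3 := hd.trans (Nat.gcd_dvd_right _ _)
      have h4 : s ≤ 71 := by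
        by_contra h
        exact Cfsg.Agent.H946.KZ.no_spor hx hs (by omega) (by rw [← hc]; exact h3)
      rcases cases_lt hs h2 h4 with h | h | h
      · exfalso
        subst h
        exact k2 (by rw [← hc]; exact Nat.mod_eq_zero_of_dvd h3)
      · exact h
      · exfalso
        subst h
        exact k1 (by rw [← hc]; exact Nat.mod_eq_zero_of_dvd h3)
    have h2 := Nat.eq_prime_pow_of_unique_prime_dvd hne (fun hs hd => h1 _ hs hd)
    have h3 : (Nat.gcd (ncl 12 q) (Nat.card S)).primeFactorsList.length = 1 := by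
      have h4 : 37 ∣ Nat.gcd (ncl 12 q) (Nat.card S) := Nat.dvd_gcd hr hrS
      have h5 : ¬ 37 ^ 2 ∣ Nat.gcd (ncl 12 q) (Nat.card S) := fun h => by
        apply k3
        rw [← hc]
        exact Nat.mod_eq_zero_of_dvd (h.trans (Nat.gcd_dvd_right _ _))
      generalize hL : (Nat.gcd (ncl 12 q) (Nat.card S)).primeFactorsList.length = L at h2 ⊢
      rcases L with _ | _ | L
      · rw [h2] at h4
        norm_num at h4
      · rfl
      · exfalso
        apply h5
        rw [h2]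
        exact pow_dvd_pow _ (by omega)
    rw [h3, pow_one] at h2
    exact h2
  have hb' : Big S 37 (Nat.gcd (ncl 12 q) (Nat.card S)) 4 :=
    ⟨hb.prime, hb.cyc, fun y hy => Nat.dvd_gcd (hb.card y hy) (Subgroup.card_subgroup_dvd_card _), hb.aut, hb.ndvd⟩
  obtain ⟨a, ha, hmod⟩ := Cfsg.Agent.H349.KD4.Big.mod_mem hb' hg hrS
  have h6 : a ≤ 4 := Nat.le_of_dvd (by norm_num) ha
  have h7 : a = 1 ∨ a = 2 ∨ a = 4 := by interval_cases a <;> revert ha <;> decide
  unfold Nat.ModEq at hmod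
  rw [hc] at hmod
  apply (by simpa using k4 : ¬ (x.2 / 37 % 37 = 1 ∨ x.2 / 37 % 37 = 2 ∨ x.2 / 37 % 37 = 4))
  rcases h7 with rfl | rfl | rfl
  · exact Or.inl hmod
  · exact Or.inr (Or.inl hmod)
  · exact Or.inr (Or.inr hmod)

variable {p f : ℕ}

/-- **The identification of the simple group, one prime.** -/
theorem ident1 (tb : OrderTable.{0}) (hp : p.Prime) (hf : 1 ≤ f) {F : Type} [Field F] [CharP F p] {S : Type} [Group S]
    [Finite S] [IsSimpleGroup S] (hna : ¬ IsMulCommutative S) (hK : IsKnownSimple' S) (hrep : Fth 8 F S) {r : ℕ}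
    (hr : Prim p (12 * f) r) (h13 : 13 < r) (hbr : Big S r (ncl 12 (p ^ f)) 4) (hrS : r ∣ Nat.card S)
    (hd : Nat.card S ∣ num (.td4 (p ^ f))) : Nat.card S = num (.td4 (p ^ f)) := by
  have hna' : ¬ ∀ a b : S, a * b = b * a := fun h => hna ⟨⟨h⟩⟩
  have hq : 2 ≤ p ^ f := hp.two_le.trans (Nat.le_self_pow (by omega) _)
  have hrn : r ∣ ncl 12 (p ^ f) := dvd_ncl cls12 (by omega) (Cfsg.Agent.H946.KZ.prim_base hf hr)
  obtain ⟨g, hgS⟩ := exists_named tb hK hna'
  rcases Cfsg.Agent.H192.Singer.cases_name hgS.cond with ⟨m, rfl⟩ | hsp | ⟨l, hl, hch⟩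
  · exfalso
    obtain ⟨Φ⟩ : Nonempty (S ≃* alternatingGroup (Fin m)) := hgS.real
    exact not_alt hbr hrS (by omega) Φ
  · exfalso
    have h1 := Cfsg.Agent.H192.Singer.spor_mem hsp
    have h2 : Nat.card S = ordN g := hgS.ord
    exact no_spor1 hq hrn h13 hbr hrS h1 h2
  · by_cases hpl : p = l
    · subst hpl
      have h1 := charp_td4z hp (by omega) hgS.cond hch hgS.eq hd
        (zt_of_one hp hf hgS.cond hch hgS.eq hd (by rwa [mul_comm]) hrS)
      subst h1
      have h2 := hgS.eq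
      rw [show den (.td4 (p ^ f)) = 1 from rfl, one_mul] at h2
      exact h2
    · exfalso
      obtain ⟨X, f₁, h1, h2, -⟩ := exists_lie hl hgS hch
      have hlF : (l : F) ≠ 0 := by
        intro h
        exact hpl ((Nat.prime_dvd_prime_iff_eq hp hl).1 ((CharP.cast_eq_zero_iff F p l).1 h))
      have h3 := lb_le hna' (by norm_num) hrep h1 hgS.real h2 hlF
      have h4 : 17 < r := by
        have h5 := mod_of_class hq hr.prime hrn
        omega
      exact Cfsg.Agent.H946.KZ.no_cross (by norm_num) bnd_8_17 h2 h3 hr.prime ⟨h4, List.not_mem_nil⟩ hrS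

variable {K : Type} [Field K] [Fintype K]

/-- **Subgroups of `³D₄(q)` containing an element of large primitive prime order.** -/
theorem kone_TD4 (tb : OrderTable.{0}) (hkn : ∀ (S : Type) [Group S] [Finite S], IsSimpleGroup S → IsKnownSimple' S)
    (hE : CycFixSolv.{0}) (hp : p.Prime) (hf : 1 ≤ f) (hK : Fintype.card K = (p ^ f) ^ 3)
    (M : Subgroup ↥(twistedD4 K (p ^ f))) {r₀ : ℕ} (hr₀ : Prim p (12 * f) r₀) (h13 : 13 < r₀) (hrM₀ : r₀ ∣ Nat.card M) :
    M = ⊤ ∨ Nat.card M ∣ 4 * ncl 12 (p ^ f) := by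
  have hq : 2 ≤ p ^ f := hp.two_le.trans (Nat.le_self_pow (by omega) p)
  have hpp : IsPrimePow (p ^ f) := hp.isPrimePow.pow (by omega)
  have : Fact p.Prime := ⟨hp⟩
  have : CharP K p := charP_of_pow (a := f * 3) hp (by rw [hK, ← pow_mul])
  by_cases hsep : Nat.card M ∣ 4 * ncl 12 (p ^ f)
  · exact Or.inr hsep
  left
  have hr₀' : Prim (p ^ f) 12 r₀ := Cfsg.Agent.H946.KZ.prim_base hf hr₀
  have hcard := card_eq hp (by omega) hK
  have hbig : ∀ r, Prim (p ^ f) 12 r → Big ↥(twistedD4 K (p ^ f)) r (ncl 12 (p ^ f)) 4 := fun r hr =>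
    big_TD4_12 hpp hK (cast_ncl (by omega)) hr
  -- the natural module
  obtain ⟨ψ, hψ⟩ := Cfsg.Agent.H392.TD.exists_nat hpp hK
  let τ : ↥(twistedD4 K (p ^ f)) →* Matrix.GeneralLinearGroup (Fin 4 ⊕ Fin 4) K :=
    (isometryGroup K (quadFormPlus 4 K)).subtype.comp ψ
  have hτ : Function.Injective τ := (Subgroup.subtype_injective _).comp hψ
  -- the family
  let C : ℕ → ℕ → ℕ → Prop := fun r m e => (Prim (p ^ f) 12 r ∧ r ∣ Nat.card M) ∧ m = ncl 12 (p ^ f) ∧ e = 4
  have hC : ∀ r, Pr C r ↔ Prim (p ^ f) 12 r ∧ r ∣ Nat.card M := fun r =>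
    ⟨fun ⟨_, _, h⟩ => h.1, fun h => ⟨_, _, h, rfl, rfl⟩⟩
  have hfree : ∀ t : ℕ, t.Prime → ¬ Prim (p ^ f) 12 t → Free ↥(twistedD4 K (p ^ f)) t r₀ := by
    intro t ht hnt x hx hxm a hat hc
    have hx0 : orderOf x = r₀ := (Nat.prime_dvd_prime_iff_eq hx hr₀.prime).1 hxm
    have h2 := (hbig _ hr₀').card x hx0
    have h3 : a ∈ Subgroup.centralizer ({x} : Set ↥(twistedD4 K (p ^ f))) := by
      rw [Subgroup.mem_centralizer_singleton_iff]; exact hc.symm
    have h4 : orderOf a ∣ ncl 12 (p ^ f) := by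
      refine dvd_trans ?_ h2
      rw [← Subgroup.orderOf_mk a h3]
      exact orderOf_dvd_natCard _
    have h5 : orderOf a ∣ t := orderOf_dvd_of_pow_eq_one hat
    rcases (Nat.dvd_prime ht).1 h5 with h6 | h6
    · exact orderOf_eq_one_iff.1 h6
    · exact absurd (prim_of_dvd cls12 (by omega) ht (h6 ▸ h4)) hnt
  have hred : Red M (Pr C) := by
    refine red_of hE (p := p) (τ := τ.comp M.subtype) (hτ.comp M.subtype_injective)
      (pcore_of_piso ((Cfsg.Agent.H325.IsoExc.piso_twD4 hpp hK hr₀').sub M) hrM₀)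
      ((hC _).2 ⟨hr₀', hrM₀⟩) hr₀.prime hrM₀ ((hbig _ hr₀').subgroup M).cyc ?_
    intro t ht _ hnt htM
    refine ⟨r₀, hrM₀, (hfree t ht fun h => hnt ((hC _).2 ⟨h, htM⟩)).subgroup M, Or.inl ?_⟩
    have h1 : Fintype.card (Fin 4 ⊕ Fin 4) = 8 := by decide
    rw [h1]
    omega
  have hfam : RFam M C := by
    refine ⟨?_, ?_, ?_⟩
    · rintro r m e ⟨⟨hr, -⟩, rfl, rfl⟩
      exact (hbig r hr).subgroup M
    · rintro r m e ⟨⟨-, hr⟩, -, -⟩
      exact hr
    · rintro r m e ⟨-, rfl, rfl⟩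
      exact hsep
  obtain ⟨S, hSn, hs, hna, hall⟩ := hfam.exists_full hE hred (r₁ := r₀) ⟨⟨hr₀', hrM₀⟩, rfl, rfl⟩
  have hSM : Nat.card S ∣ Nat.card M := Subgroup.card_subgroup_dvd_card S
  have hMG : Nat.card M ∣ Nat.card ↥(twistedD4 K (p ^ f)) := Subgroup.card_subgroup_dvd_card M
  have hrep : Fth 8 K S := by
    have h1 : Function.Injective ((τ.comp M.subtype).comp S.subtype) :=
      (hτ.comp M.subtype_injective).comp S.subtype_injective
    exact Fth.of h1
  obtain ⟨g1, g2, -, -⟩ := hall r₀ _ _ ⟨⟨hr₀', hrM₀⟩, rfl, rfl⟩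
  have hcS := ident1 tb hp hf hna (hkn S hs) hrep hr₀ h13 g1 g2 (by rw [← hcard]; exact hSM.trans hMG)
  apply Subgroup.eq_top_of_card_eq
  apply Nat.dvd_antisymm hMG
  rw [hcard, ← hcS]
  exact hSM

end Cfsg.Agent.H349.Rg
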